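import Groth.Agent.S0099
import Groth.Agent.S0071
import Groth.Agent.S0073
import Groth.Agent.Hensel.Henselization
import Groth.Agent.S0101
import Groth.Agent.S14451
import Mathlib.CategoryTheory.Limits.Constructions.Filtered
import Mathlib.CategoryTheory.Limits.Preserves.Shapes.Products
import Mathlib.CategoryTheory.Preadditive.AdditiveFunctor
import Mathlib.RingTheory.Henselian

/-!
# Cohomology of sums of skyscraper sheaves
-/

set_option autoImplicit false

universe w w' v u v' u'

open CategoryTheory CategoryTheory.Limits AlgebraicGeometry Opposite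

namespace Groth.Agent.SGA4hSkyscraper

theorem subsingleton_H_field (K : Type u) [Field K] [IsSepClosed K]
    (F : EtCoh.Ab (Spec (CommRingCat.of K))) (q : ℕ) (hq : 0 < q) :
    Subsingleton (EtCoh.H (Spec (CommRingCat.of K)) F q) := by
  haveI : IsSepClosed (IsLocalRing.ResidueField K) :=
    Hensel.isSepClosed_of_ringEquiv (RingEquiv.ofBijective (IsLocalRing.residue K)
      ⟨RingHom.injective _, IsLocalRing.residue_surjective⟩)
  exact S0073.result K F q hq

open CoproductsFromFiniteFiltered in
/-- A functor commuting with filtered colimits and finite coproducts kills a coproduct of objects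
it kills. -/
theorem isZero_obj_cofan {C : Type u'} [Category.{v'} C] [HasFiniteCoproducts C] {D : Type w'}
    [Category.{v} D] [HasZeroMorphisms D] (G : C ⥤ D) {α : Type w}
    [HasColimitsOfShape (Finset (Discrete α)) C] [PreservesColimitsOfShape (Finset (Discrete α)) G]
    [PreservesFiniteCoproducts G]
    (f : α → C) (h : ∀ a, IsZero (G.obj (f a))) (c : Cofan f) (hc : IsColimit c) :
    IsZero (G.obj c.pt) := by
  haveI : HasCoproduct f := HasColimit.mk ⟨c, hc⟩
  refine IsZero.of_iso ?_ (G.mapIso (hc.coconePointUniqueUpToIso (colimit.isColimit _)))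
  have hcol := isColimitOfPreserves G (isColimitFiniteSubproductsCocone f)
  refine (IsZero.iff_id_eq_zero _).2 (hcol.hom_ext fun S => ?_)
  have hS : IsZero ((G.obj ((liftToFinsetObj (Discrete.functor f)).obj S))) := by
    have hfin := isColimitOfPreserves G
      (colimit.isColimit (Discrete.functor fun x : S => f x.1.as))
    exact (IsZero.iff_id_eq_zero _).2 (hfin.hom_ext fun j => (h j.as.1.as).eq_of_src _ _)
  exact hS.eq_of_src _ _

/-- Higher cohomology of a direct sum of sheaves supported on closed points with separably closed
residue fields vanishes. -/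
theorem subsingleton_H_of_isColimit {X : Scheme.{u}} [CompactSpace X] [QuasiSeparatedSpace X]
    {α : Type u} (x : α → X) (hx : ∀ a, IsClosed ({x a} : Set X))
    (hsep : ∀ a, IsSepClosed (X.residueField (x a)))
    (G : ∀ a, EtCoh.Ab (Spec (X.residueField (x a))))
    (c : Cofan fun a => (EtCoh.push (X.fromSpecResidueField (x a))).obj (G a))
    (hc : IsColimit c) (q : ℕ) (hq : 0 < q) : Subsingleton (EtCoh.H X c.pt q) := by
  haveI := fun J [SmallCategory J] [IsFiltered J] => S0099.result X q J
  haveI : (EtCoh.HF X q).Additive :=
    ⟨fun {F G} f g => by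
      ext x
      show Sheaf.H.map (f + g) q x = Sheaf.H.map f q x + Sheaf.H.map g q x
      show Abelian.Ext.comp x (Abelian.Ext.mk₀ (f + g)) (add_zero q) = _
      rw [Abelian.Ext.mk₀_add, Abelian.Ext.comp_add]
      rfl⟩
  refine AddCommGrpCat.subsingleton_of_isZero (G := (EtCoh.HF X q).obj c.pt)
    (isZero_obj_cofan (EtCoh.HF X q) _ (fun a => ?_) c hc)
  haveI : IsClosedImmersion (X.fromSpecResidueField (x a)) :=
    isClosed_singleton_iff_isClosedImmersion.mp (hx a)
  haveI := S0101.result (X.fromSpecResidueField (x a))
  have hb := S14451.result (X.fromSpecResidueField (x a)) (G a)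
    (fun i hi => S0071.result _ _ i hi) q
  haveI : Subsingleton (EtCoh.H (Spec (X.residueField (x a))) (G a) q) := by
    haveI := hsep a
    exact subsingleton_H_field (X.residueField (x a)) (G a) q hq
  exact AddCommGrpCat.isZero_iff_subsingleton.2 hb.1.subsingleton

end Groth.Agent.SGA4hSkyscraper
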